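import Mathlib
import Cfsg.Agent.Lib.SmallSimple.Count
import Cfsg.Agent.S0989
import Cfsg.Agent.S0990

/-!
A non-abelian simple group with a subgroup of index `p` or `p + 1`: order of the normalizer of a Sylow `p`-subgroup.
-/

namespace Cfsg.Agent.Lib.SmallSimple

open Subgroup

variable {G : Type*} [Group G]

theorem factorization_factorial_of_index {p n : ℕ} (hp : p.Prime) (hn : n = p ∨ n = p + 1) :
    n.factorial.factorization p = 1 := by
  have hnd : ¬ p ∣ (p - 1).factorial := by
    rw [hp.dvd_factorial]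
    have := hp.one_lt
    omega
  have hf : p.factorial = p * (p - 1).factorial := by
    obtain ⟨q, rfl⟩ : ∃ q, p = q + 1 := ⟨p - 1, by have := hp.one_lt; omega⟩
    simp [Nat.factorial_succ]
  rcases hn with rfl | rfl
  · rw [hf]
    have := factorization_of_card (a := 1) hp hnd
    simpa using this
  · rw [Nat.factorial_succ, hf]
    have h3 : (p + 1) * (p * (p - 1).factorial) = p ^ 1 * ((p + 1) * (p - 1).factorial) := by ring
    rw [h3]
    apply factorization_of_card hp
    intro h
    rcases (Nat.Prime.dvd_mul hp).mp h with h | h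
    · have := (Nat.dvd_add_right (dvd_refl p)).mp h
      exact hp.one_lt.ne' (Nat.dvd_one.mp this)
    · exact hnd h

/-- The bound on `N_G(P)` coming from embedding in `A_n`, `n = p` or `n = p + 1`. -/
theorem two_mul_card_normalizer_dvd_aux [Finite G] {n : ℕ} (f : G →* alternatingGroup (Fin n))
    (hf : Function.Injective f) {p : ℕ} [hp : Fact p.Prime] (hp2 : p ≠ 2)
    (hn : n = p ∨ n = p + 1) (P : Sylow p G) (hP : Nat.card (P : Subgroup G) = p) :
    2 * Nat.card (normalizer ((P : Subgroup G) : Set G)) ∣ p * (p - 1) := by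
  classical
  let φ : G →* Equiv.Perm (Fin n) := (alternatingGroup (Fin n)).subtype.comp f
  have hφ : Function.Injective φ := (alternatingGroup (Fin n)).subtype_injective.comp hf
  let Q : Subgroup (Equiv.Perm (Fin n)) := (P : Subgroup G).map φ
  have hQc : Nat.card Q = p ^ (Nat.card (Equiv.Perm (Fin n))).factorization p := by
    have h1 : Nat.card (Equiv.Perm (Fin n)) = n.factorial := by
      rw [Nat.card_eq_fintype_card, Fintype.card_perm, Fintype.card_fin]
    rw [h1, factorization_factorial_of_index hp.out hn, pow_one]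
    rw [← hP]
    exact Nat.card_congr (Subgroup.equivMapOfInjective _ _ hφ).toEquiv.symm
  let S : Sylow p (Equiv.Perm (Fin n)) := Sylow.ofCard Q hQc
  have hS : (S : Subgroup (Equiv.Perm (Fin n))) = Q := Sylow.coe_ofCard _ _
  have h1 : Nat.card (normalizer ((S : Subgroup (Equiv.Perm (Fin n))) : Set (Equiv.Perm (Fin n)))) = p * (p - 1) :=
    Cfsg.Agent.S0989.result p (by simpa using hn) S
  have hn2 : 2 ≤ Fintype.card (Fin n) := by
    have := hp.out.one_lt
    simp only [Fintype.card_fin]
    rcases hn with h | h <;> omega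
  obtain ⟨h2, h3⟩ := Cfsg.Agent.S0990.result (α := Fin n) hn2 p hp2 S
  rw [h1] at h3
  rw [← h3]
  apply Nat.mul_dvd_mul_left
  -- inject N_G(P) in the normalizer of S in A
  have hle : (normalizer ((P : Subgroup G) : Set G)).map f ≤
      normalizer (((S : Subgroup (Equiv.Perm (Fin n))).subgroupOf (alternatingGroup (Fin n)) : Subgroup (alternatingGroup (Fin n))) : Set (alternatingGroup (Fin n))) := by
    rintro _ ⟨g, hg, rfl⟩
    rw [SetLike.mem_coe] at hg
    rw [Subgroup.mem_normalizer_iff] at hg ⊢
    intro a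
    have e : ∀ b : alternatingGroup (Fin n), b ∈ (S : Subgroup (Equiv.Perm (Fin n))).subgroupOf (alternatingGroup (Fin n)) ↔ ∃ x ∈ (P : Subgroup G), f x = b := by
      intro b
      rw [Subgroup.mem_subgroupOf, hS]
      constructor
      · rintro ⟨x, hx, hxb⟩
        exact ⟨x, hx, Subtype.ext hxb⟩
      · rintro ⟨x, hx, rfl⟩
        exact ⟨x, hx, rfl⟩
    rw [e, e]
    constructor
    · rintro ⟨x, hx, rfl⟩
      exact ⟨g * x * g⁻¹, (hg x).mp hx, by simp⟩
    · rintro ⟨x, hx, hxa⟩
      refine ⟨g⁻¹ * x * g, ?_, ?_⟩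
      · apply (hg _).mpr
        simpa [mul_assoc] using hx
      · rw [map_mul, map_mul, hxa, map_inv]
        group
  have h4 := Subgroup.card_dvd_of_le hle
  rwa [Nat.card_congr (Subgroup.equivMapOfInjective _ _ hf).toEquiv.symm] at h4

/-- The bound on `N_G(P)` coming from embedding in `A_n`, `n = p` or `n = p + 1`. -/
theorem two_mul_card_normalizer_dvd [Finite G] [IsSimpleGroup G] (hnc : ¬ IsMulCommutative G)
    (H : Subgroup G) (hH : H ≠ ⊤) {p : ℕ} [hp : Fact p.Prime] (hp2 : p ≠ 2)
    (hn : H.index = p ∨ H.index = p + 1) (P : Sylow p G) (hP : Nat.card (P : Subgroup G) = p) :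
    2 * Nat.card (normalizer ((P : Subgroup G) : Set G)) ∣ p * (p - 1) := by
  obtain ⟨f, hf⟩ := exists_embed_alt hnc H hH
  exact two_mul_card_normalizer_dvd_aux f hf hp2 hn P hP

end Cfsg.Agent.Lib.SmallSimple
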